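import Groth.Prelude.Def_W4c6eohyperellchar2Gc
import Mathlib

/-!
# The operators of the explicit Dieudonné module on the basis
-/

set_option autoImplicit false

universe u

namespace Groth.Agent.DieuGc

open W4c6eohyperellchar2

variable {c : ℕ} {k : Type u} [Field k]

theorem coefX_X (j n : ℕ) : coefX (X c k j) n = if n = j ∧ 1 ≤ n ∧ n ≤ c then 1 else 0 := by
  unfold coefX X
  split_ifs <;> first | rfl | omega | (dsimp only; split_ifs <;> first | rfl | omega)

theorem coefY_Y (j n : ℕ) : coefY (Y c k j) n = if n = j ∧ 1 ≤ n ∧ n ≤ c then 1 else 0 := by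
  unfold coefY Y
  split_ifs <;> first | rfl | omega | (dsimp only; split_ifs <;> first | rfl | omega)

theorem coefY_X (j n : ℕ) : coefY (X c k j) n = 0 := by
  unfold coefY X
  split_ifs <;> rfl

theorem coefX_Y (j n : ℕ) : coefX (Y c k j) n = 0 := by
  unfold coefX Y
  split_ifs <;> rfl

theorem F_X_even (j : ℕ) (h : 2 * j ≤ c) : F c k (X c k (2 * j)) = X c k j := by
  refine Prod.ext (funext fun i => ?_) (funext fun i => ?_) <;> (simp only [F, coefX_X]; simp only [X, Pi.zero_apply]) <;>
    split_ifs <;> simp <;> omega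

theorem F_X_odd (i₀ : ℕ) (h : 2 * i₀ + 1 ≤ c) : F c k (X c k (2 * i₀ + 1)) = Y c k (c - i₀) := by
  refine Prod.ext (funext fun i => ?_) (funext fun i => ?_) <;> (simp only [F, coefX_X]; simp only [Y, Pi.zero_apply]) <;>
    split_ifs <;> simp <;> omega

variable [ExpChar k 2] [PerfectRing k 2]

theorem V_Y (m : ℕ) : V c k (Y c k m) = Y c k (2 * m) := by
  refine Prod.ext rfl (funext fun i => ?_)
  simp only [V, coefY_Y, coefX_Y]; simp only [Y]
  split_ifs <;> simp <;> omega

theorem V_X (j : ℕ) (h : c < 2 * j) (hj : j ≤ c) : V c k (X c k j) = Y c k (2 * c - 2 * j + 1) := by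
  refine Prod.ext rfl (funext fun i => ?_)
  simp only [V, coefX_X, coefY_X]; simp only [Y]
  split_ifs <;> simp <;> omega

theorem F_iterate_X (e l : ℕ) (h : 2 ^ e * l ≤ c) : (F c k)^[e] (X c k (2 ^ e * l)) = X c k l := by
  induction e with
  | zero => simp
  | succ e ih =>
    have he : 2 ^ (e + 1) * l = 2 * (2 ^ e * l) := by ring
    rw [he] at h ⊢
    rw [Function.iterate_succ_apply, F_X_even _ h]
    exact ih (by omega)

theorem V_iterate_Y (n m : ℕ) : (V c k)^[n] (Y c k m) = Y c k (2 ^ n * m) := by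
  induction n with
  | zero => simp
  | succ n ih => rw [Function.iterate_succ_apply', ih, V_Y]; congr 1; ring

theorem relation [CharP k 2] (j e l : ℕ) (hj : j = 2 ^ e * l) (hl : Odd l) (hjc : j ≤ c)
    (j' n : ℕ) (hj'c : j' ≤ c) (hcj' : c < 2 * j') (hn : 2 ^ n * (2 * c - 2 * j' + 1) = c - (l - 1) / 2) :
    (F c k)^[e + 1] (X c k j) + (V c k)^[n + 1] (X c k j') = 0 := by
  obtain ⟨i₀, rfl⟩ := hl
  subst hj
  have hle : 2 * i₀ + 1 ≤ c := le_trans (Nat.le_mul_of_pos_left _ (by positivity)) hjc
  rw [Function.iterate_succ_apply', F_iterate_X _ _ hjc, F_X_odd _ hle, Function.iterate_succ_apply,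
    V_X _ hcj' hj'c, V_iterate_Y, hn, show (2 * i₀ + 1 - 1) / 2 = i₀ by omega]
  refine Prod.ext (funext fun i => ?_) (funext fun i => ?_) <;> exact CharTwo.add_self_eq_zero _

theorem sum_basis (v : GcMod c k) :
    v = (∑ i : Fin c, v.1 i • X c k (i.val + 1)) + ∑ i : Fin c, v.2 i • Y c k (i.val + 1) := by
  refine Prod.ext (funext fun i => ?_) (funext fun i => ?_)
  · simp [X, Y, Prod.fst_sum, Finset.sum_apply, Fin.val_inj]
  · simp [X, Y, Prod.snd_sum, Finset.sum_apply, Fin.val_inj]

theorem eq_top_of_mem {N : Submodule k (GcMod c k)} (hX : ∀ j, 1 ≤ j → j ≤ c → X c k j ∈ N)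
    (hY : ∀ m, 1 ≤ m → m ≤ c → Y c k m ∈ N) : N = ⊤ := by
  refine eq_top_iff.2 fun v _ => ?_
  rw [sum_basis v]
  exact add_mem (sum_mem fun i _ => N.smul_mem _ (hX _ (Nat.succ_pos _) i.2))
    (sum_mem fun i _ => N.smul_mem _ (hY _ (Nat.succ_pos _) i.2))

theorem generated {N : Submodule k (GcMod c k)} (hF : ∀ v ∈ N, F c k v ∈ N) (hV : ∀ v ∈ N, V c k v ∈ N)
    (hX : ∀ j, c < 2 * j → j ≤ c → X c k j ∈ N) : N = ⊤ := by
  have hX' : ∀ d j, c - j = d → 1 ≤ j → j ≤ c → X c k j ∈ N := by
    intro d
    induction d using Nat.strong_induction_on with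
    | _ d ih =>
      intro j hd h1 h2
      by_cases h : c < 2 * j
      · exact hX j h h2
      · rw [← F_X_even j (by omega)]
        exact hF _ (ih (c - 2 * j) (by omega) _ rfl (by omega) (by omega))
  refine eq_top_of_mem (fun j => hX' _ j rfl) fun m => ?_
  induction m using Nat.strong_induction_on with
  | _ m ih =>
    intro h1 h2
    obtain ⟨m', rfl | rfl⟩ := Nat.even_or_odd' m
    · rw [← V_Y]
      exact hV _ (ih m' (by omega) (by omega) (by omega))
    · have h := hV _ (hX (c - m') (by omega) (by omega))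
      rwa [V_X _ (by omega) (by omega), show 2 * c - 2 * (c - m') + 1 = 2 * m' + 1 by omega] at h

theorem quotient_basis :
    LinearIndependent k (fun j : {j : ℕ // c < 2 * j ∧ j ≤ c} =>
        Submodule.mkQ (Submodule.span k (Set.range (F c k) ∪ Set.range (V c k))) (X c k j.1)) ∧
      Submodule.span k (Set.range (fun j : {j : ℕ // c < 2 * j ∧ j ≤ c} =>
        Submodule.mkQ (Submodule.span k (Set.range (F c k) ∪ Set.range (V c k))) (X c k j.1))) = ⊤ := by
  set N := Submodule.span k (Set.range (F c k) ∪ Set.range (V c k)) with hN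
  let pr : GcMod c k →ₗ[k] ({j : ℕ // c < 2 * j ∧ j ≤ c} → k) :=
    { toFun := fun v j => coefX v j.1
      map_add' := fun v w => funext fun j => by
        show coefX (v + w) j.1 = coefX v j.1 + coefX w j.1
        unfold coefX; split_ifs <;> simp
      map_smul' := fun a v => funext fun j => by
        show coefX (a • v) j.1 = a * coefX v j.1
        unfold coefX; split_ifs <;> simp }
  have hle : N ≤ LinearMap.ker pr := by
    rw [hN, Submodule.span_le]
    rintro w (⟨v, rfl⟩ | ⟨v, rfl⟩) <;> refine LinearMap.mem_ker.2 (funext fun j => ?_)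
    · show coefX (F c k v) j.1 = 0
      have := j.2
      unfold coefX F
      dsimp only
      rw [dif_pos (by omega)]
      unfold coefX
      rw [dif_neg (by omega)]
      simp
    · show coefX (V c k v) j.1 = 0
      unfold coefX V
      split_ifs <;> rfl
  constructor
  · refine LinearIndependent.of_comp (Submodule.liftQ N pr hle) ?_
    have : Submodule.liftQ N pr hle ∘ (fun j : {j : ℕ // c < 2 * j ∧ j ≤ c} => N.mkQ (X c k j.1)) =
        fun j => Pi.single j 1 := by
      funext j j'
      show coefX (X c k j.1) j'.1 = _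
      rw [coefX_X, Pi.single_apply]
      have := j'.2
      by_cases h : j' = j
      · subst h; rw [if_pos rfl, if_pos (by omega)]
      · rw [if_neg h, if_neg fun hh => h (Subtype.ext hh.1)]
    rw [this]
    exact Pi.linearIndependent_single_one _ k
  · set P := Submodule.span k (Set.range (fun j : {j : ℕ // c < 2 * j ∧ j ≤ c} => N.mkQ (X c k j.1))) with hP
    have htop : P.comap N.mkQ = ⊤ := by
      have hmem : ∀ w ∈ Set.range (F c k) ∪ Set.range (V c k), w ∈ P.comap N.mkQ := fun w hw => by
        rw [Submodule.mem_comap, Submodule.mkQ_apply, (Submodule.Quotient.mk_eq_zero N).2 (Submodule.subset_span hw)]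
        exact zero_mem _
      refine eq_top_of_mem (fun j h1 h2 => ?_) (fun m h1 h2 => ?_)
      · by_cases h : c < 2 * j
        · exact Submodule.subset_span ⟨⟨j, h, h2⟩, rfl⟩
        · rw [← F_X_even j (by omega)]
          exact hmem _ (Or.inl ⟨_, rfl⟩)
      · obtain ⟨m', rfl | rfl⟩ := Nat.even_or_odd' m
        · rw [← V_Y]
          exact hmem _ (Or.inr ⟨_, rfl⟩)
        · rw [show 2 * m' + 1 = 2 * c - 2 * (c - m') + 1 by omega, ← V_X (c - m') (by omega) (by omega)]
          exact hmem _ (Or.inr ⟨_, rfl⟩)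
    rw [← Submodule.map_comap_eq_of_surjective N.mkQ_surjective P, htop, Submodule.map_top, Submodule.range_mkQ]

end Groth.Agent.DieuGc
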